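import Cfsg.Agent.Lib.Helper67.LSF.Defs

/-!
# LSF (S5286): package [INV] — inversion of paths
-/

set_option autoImplicit false

namespace Cfsg.Agent.Lib.Helper15.LSF

open Cfsg Cfsg.Agent.Lib.Helper67.LSF

universe u

theorem path_nil_inv {Ω : Type u} [Group Ω] (S : Subgroup Ω) (F : FusionSystem S)
    (q : Equiv.Perm S) (h : Path F [] q) : ∃ s : S, q = lam S s := by
  generalize hL : ([] : List (X F × Bool)) = L' at h
  induction h with
  | nil s => exact ⟨s, rfl⟩
  | a s h ih =>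
    obtain ⟨s', rfl⟩ := ih hL
    exact ⟨s * s', (map_mul _ _ _).symm⟩
  | t i h ih => cases hL
  | t' i h ih => cases hL

theorem path_true_inv {Ω : Type u} [Group Ω] (S : Subgroup Ω) (F : FusionSystem S)
    (x : X F) (L : List (X F × Bool)) (q : Equiv.Perm S) (h : Path F ((x, true) :: L) q) :
    ∃ (i : Idx F) (s : S) (q₀ : Equiv.Perm S), Path F L q₀ ∧
      x = ⟨i, ((q₀⁻¹ : Equiv.Perm S) : Equiv.Perm S ⧸ Lam i)⟩ ∧ q = lam S s * i.σ * q₀ := by
  generalize hL : ((x, true) :: L) = L' at h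
  induction h with
  | nil s => cases hL
  | a s h ih =>
    obtain ⟨i, s', q₀, hp, hx, hq⟩ := ih hL
    refine ⟨i, s * s', q₀, hp, hx, ?_⟩
    rw [hq, map_mul, mul_assoc, mul_assoc, mul_assoc]
  | @t j L₁ q₁ h ih =>
    injection hL with h1 h2
    injection h1 with h3 h4
    subst h2
    refine ⟨j, 1, q₁, h, h3, ?_⟩
    rw [map_one, one_mul]
  | t' j h ih =>
    injection hL with h1 h2
    injection h1 with h3 h4
    cases h4

theorem path_false_inv {Ω : Type u} [Group Ω] (S : Subgroup Ω) (F : FusionSystem S)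
    (x : X F) (L : List (X F × Bool)) (q : Equiv.Perm S) (h : Path F ((x, false) :: L) q) :
    ∃ (i : Idx F) (s : S) (q₀ : Equiv.Perm S), Path F L q₀ ∧
      x = ⟨i, ((q₀⁻¹ * i.σ : Equiv.Perm S) : Equiv.Perm S ⧸ Lam i)⟩ ∧
      q = lam S s * i.σ⁻¹ * q₀ := by
  generalize hL : ((x, false) :: L) = L' at h
  induction h with
  | nil s => cases hL
  | a s h ih =>
    obtain ⟨i, s', q₀, hp, hx, hq⟩ := ih hL
    refine ⟨i, s * s', q₀, hp, hx, ?_⟩
    rw [hq, map_mul, mul_assoc, mul_assoc, mul_assoc]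
  | t j h ih =>
    injection hL with h1 h2
    injection h1 with h3 h4
    cases h4
  | @t' j L₁ q₁ h ih =>
    injection hL with h1 h2
    injection h1 with h3 h4
    subst h2
    refine ⟨j, 1, q₁, h, h3, ?_⟩
    rw [map_one, one_mul]

theorem pkgInv : PkgInv.{u} := by
  intro Ω _ S F
  exact ⟨path_nil_inv S F, path_true_inv S F, path_false_inv S F⟩

end Cfsg.Agent.Lib.Helper15.LSF
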