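import Cfsg.Agent.Lib.Helper67.LSF.Defs

/-!
# LSF (S5286): package [RED] — paths can be taken with reduced words
-/

set_option autoImplicit false

namespace Cfsg.Agent.Lib.Helper15.LSF

open Cfsg Cfsg.Agent.Lib.Helper67.LSF

universe u

theorem mk_cons_congr_red {α : Type u} (ℓ : α × Bool) {L L' : List (α × Bool)}
    (h : FreeGroup.mk L' = FreeGroup.mk L) :
    FreeGroup.mk (ℓ :: L') = FreeGroup.mk (ℓ :: L) := by
  have e : ∀ M : List (α × Bool),
      FreeGroup.mk (ℓ :: M) = FreeGroup.mk [ℓ] * FreeGroup.mk M := fun M => by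
    rw [FreeGroup.mul_mk]; rfl
  rw [e L', e L, h]

theorem lam_inj_red {Ω : Type u} [Group Ω] (S : Subgroup Ω) {s t : S}
    (h : lam S s = lam S t) : s = t := by
  have h1 := congrArg (fun f : Equiv.Perm S => f 1) h
  simpa [lam_apply] using h1

theorem mem_Lam_iff_red {Ω : Type u} [Group Ω] {S : Subgroup Ω} {F : FusionSystem S}
    (i : Idx F) (s : S) : lam S s ∈ Lam i ↔ (s : Ω) ∈ i.P := by
  unfold Lam
  rw [Subgroup.mem_map]
  constructor
  · rintro ⟨u, hu, hus⟩
    have h1 := lam_inj_red S hus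
    subst h1
    exact Subgroup.mem_subgroupOf.mp hu
  · intro h
    exact ⟨s, Subgroup.mem_subgroupOf.mpr h, rfl⟩

theorem conj_sigma_red {Ω : Type u} [Group Ω] {S : Subgroup Ω} {F : FusionSystem S}
    (i : Idx F) (s : S) (hs : (s : Ω) ∈ i.P) :
    i.σ * lam S s * i.σ⁻¹
      = lam S ⟨i.φ ⟨s, hs⟩, (F.le_of_mem i.mem).2 ⟨s, hs⟩⟩ := by
  refine Equiv.ext fun x => ?_
  have h1 := i.hσ ⟨s, hs⟩ (i.σ⁻¹ x)
  have e2 : i.σ (i.σ⁻¹ x) = x := by
    rw [← Equiv.Perm.mul_apply, mul_inv_cancel, Equiv.Perm.one_apply]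
  rw [e2] at h1
  simp only [Equiv.Perm.mul_apply, lam_apply]
  exact h1

theorem pkgRed_of (hInv : PkgInv.{u}) : PkgRed.{u} := by
  intro Ω _ S F L q h
  induction h with
  | nil s => exact ⟨[], Path.nil s, FreeGroup.IsReduced.nil, rfl⟩
  | a s h ih =>
    obtain ⟨L', hp, hr, hm⟩ := ih
    exact ⟨L', Path.a s hp, hr, hm⟩
  | @t i L q h ih =>
    obtain ⟨L', hp, hr, hm⟩ := ih
    cases L' with
    | nil => exact ⟨_, Path.t i hp, FreeGroup.IsReduced.singleton, mk_cons_congr_red _ hm⟩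
    | cons b L'' =>
      by_cases hb : ((⟨i, ((q⁻¹ : Equiv.Perm S) : Equiv.Perm S ⧸ Lam i)⟩ : X F) = b.1 →
          true = b.2)
      · exact ⟨_, Path.t i hp, FreeGroup.isReduced_cons_cons.mpr ⟨hb, hr⟩,
          mk_cons_congr_red _ hm⟩
      · obtain ⟨y, c⟩ := b
        have hb1 : (⟨i, ((q⁻¹ : Equiv.Perm S) : Equiv.Perm S ⧸ Lam i)⟩ : X F) = y := by
          by_contra hne
          exact hb (fun h => absurd h hne)
        have hc : c = false := by
          cases c
          · rfl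
          · exact absurd (fun _ => rfl) hb
        subst hc
        subst hb1
        obtain ⟨i', s, q₀, hp0, hx, hq⟩ := (hInv S F).2.2 _ L'' q hp
        obtain ⟨hi, h2⟩ := Sigma.mk.inj_iff.mp hx
        subst hi
        have h3 := eq_of_heq h2
        rw [QuotientGroup.eq] at h3
        have h4 : (q⁻¹)⁻¹ * (q₀⁻¹ * i.σ) = lam S s := by rw [hq]; group
        rw [h4, mem_Lam_iff_red] at h3
        refine ⟨L'', ?_, hr.infix (List.suffix_cons _ _).isInfix, ?_⟩
        · have h5 : i.σ * q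
              = lam S ⟨i.φ ⟨s, h3⟩, (F.le_of_mem i.mem).2 ⟨s, h3⟩⟩ * q₀ := by
            rw [← conj_sigma_red i s h3, hq]; group
          rw [h5]; exact Path.a _ hp0
        · rw [← mk_cons_congr_red _ hm]
          exact (Quot.sound (FreeGroup.Red.Step.cons_not (b := true))).symm
  | @t' i L q h ih =>
    obtain ⟨L', hp, hr, hm⟩ := ih
    cases L' with
    | nil => exact ⟨_, Path.t' i hp, FreeGroup.IsReduced.singleton, mk_cons_congr_red _ hm⟩
    | cons b L'' =>
      by_cases hb : ((⟨i, ((q⁻¹ * i.σ : Equiv.Perm S) : Equiv.Perm S ⧸ Lam i)⟩ : X F) = b.1 →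
          false = b.2)
      · exact ⟨_, Path.t' i hp, FreeGroup.isReduced_cons_cons.mpr ⟨hb, hr⟩,
          mk_cons_congr_red _ hm⟩
      · obtain ⟨y, c⟩ := b
        have hb1 : (⟨i, ((q⁻¹ * i.σ : Equiv.Perm S) : Equiv.Perm S ⧸ Lam i)⟩ : X F) = y := by
          by_contra hne
          exact hb (fun h => absurd h hne)
        have hc : c = true := by
          cases c
          · exact absurd (fun _ => rfl) hb
          · rfl
        subst hc
        subst hb1
        obtain ⟨i', s, q₀, hp0, hx, hq⟩ := (hInv S F).2.1 _ L'' q hp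
        obtain ⟨hi, h2⟩ := Sigma.mk.inj_iff.mp hx
        subst hi
        have h3 := eq_of_heq h2
        rw [QuotientGroup.eq] at h3
        have h4 : (q⁻¹ * i.σ)⁻¹ * q₀⁻¹ = i.σ⁻¹ * lam S s * i.σ := by rw [hq]; group
        rw [h4] at h3
        obtain ⟨u, hu, hus⟩ := Subgroup.mem_map.mp h3
        refine ⟨L'', ?_, hr.infix (List.suffix_cons _ _).isInfix, ?_⟩
        · have h5 : i.σ⁻¹ * q = lam S u * q₀ := by
            rw [hus, hq]; group
          rw [h5]; exact Path.a _ hp0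
        · rw [← mk_cons_congr_red _ hm]
          exact (Quot.sound (FreeGroup.Red.Step.cons_not (b := false))).symm

end Cfsg.Agent.Lib.Helper15.LSF
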